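import Cfsg.Prelude.Def_OddOrderLocal
import Cfsg.Agent.Lib.Solvable.PiSeparable
import Cfsg.Agent.Lib.Solvable.Fitting
import Cfsg.Agent.Lib.Cores.Basic
import Cfsg.Agent.Lib.Coprime.Invariant
import Cfsg.Agent.Lib.Coprime.Generation
import Cfsg.Agent.Lib.Coprime.Abelian
import Cfsg.Agent.Lib.Transfer.NilpotentHall
import Cfsg.Agent.Lib.Isolated.RankOne

/-!
# TI Hall subgroups of π-separable groups

* `coprime_index_of_ti`: a TI subgroup which is a Hall subgroup of its normaliser is a Hall subgroup.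
* `isZGroup_of_ti`: a nonnormal TI Hall subgroup of a π-separable group is a Z-group, when its
  Sylow 2-subgroups are abelian.
* `sup_normalizer_eq_top`: then `G = O_{π'}(G) N_G(H)`.
* `hall_fixed_points`: `C_H(Q)` is a Hall subgroup of the Z-group `H`, and `[H, Q]` has order prime to it.
-/

open Subgroup
open scoped Pointwise commutatorElement

namespace Cfsg.Agent.TIHall

variable {G : Type*} [Group G]

theorem eq_of_card_eq_cyclic [Finite G] {A B C : Subgroup G} [IsCyclic C] (hA : A ≤ C) (hB : B ≤ C)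
    (h : Nat.card A = Nat.card B) : A = B := by
  let _ : CommGroup C := IsCyclic.commGroup
  have key : ∀ {X : Subgroup G}, X ≤ C → Nat.card X = Nat.card A →
      X.subgroupOf C = (powMonoidHom (α := C) (Nat.card A)).ker := by
    intro X hX hc
    have hcard : Nat.card (X.subgroupOf C) = Nat.card A :=
      (Nat.card_congr (subgroupOfEquivOfLe hX).toEquiv).trans hc
    refine eq_of_le_of_card_ge (fun x hx => ?_) ?_
    · rw [MonoidHom.mem_ker, powMonoidHom_apply, ← hcard]
      exact congrArg Subtype.val (pow_card_eq_one' (x := (⟨x, hx⟩ : X.subgroupOf C)))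
    · rw [IsCyclic.card_powMonoidHom_ker, hcard]
      exact Nat.le_of_dvd Nat.card_pos (Nat.gcd_dvd_right _ _)
  have := (key hA rfl).trans (key hB h.symm).symm
  rwa [subgroupOf_inj, inf_eq_left.2 hA, inf_eq_left.2 hB] at this

theorem normalizer_inf_le_normalizer_sup {A B : Subgroup G} {g : G}
    (hA : g ∈ normalizer (A : Set G)) (hB : g ∈ normalizer (B : Set G)) :
    g ∈ normalizer ((A ⊔ B : Subgroup G) : Set G) := by
  rw [Solvable.mem_normalizer_iff_conj] at hA hB ⊢
  rw [smul_sup, hA, hB]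

/-- A TI subgroup which is a Hall subgroup of its normaliser is a Hall subgroup. -/
theorem coprime_index_of_ti [Finite G] (H : Subgroup G) (hTI : Cfsg.IsTISubset (H : Set G))
    (hHall : (Nat.card H).Coprime (H.relIndex (normalizer (H : Set G)))) :
    (Nat.card H).Coprime H.index := by
  refine Nat.coprime_of_dvd fun p hp h1 h2 => ?_
  have := Fact.mk hp
  obtain ⟨P⟩ := (inferInstance : Nonempty (Sylow p H))
  set a := (Nat.card H).factorization p
  set P' := (P : Subgroup H).map H.subtype
  have hcard : Nat.card P' = p ^ a := by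
    rw [card_map_of_injective H.subtype_injective]
    exact P.card_eq_multiplicity
  have ha : a ≠ 0 := (hp.factorization_pos_of_dvd Nat.card_pos.ne' h1).ne'
  have hdvd : p ^ (a + 1) ∣ Nat.card G := by
    rw [← H.card_mul_index, pow_succ]
    exact mul_dvd_mul (Nat.ordProj_dvd _ _) h2
  have hN : normalizer (P' : Set G) ≤ normalizer (H : Set G) := by
    intro g hg
    by_contra hgH
    obtain ⟨x, hx, hx1⟩ : ∃ x ∈ P', x ≠ 1 := by
      have hne : P' ≠ ⊥ := fun h => by
        rw [h, card_bot] at hcard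
        exact hp.not_dvd_one (hcard ▸ dvd_pow_self p ha)
      obtain ⟨x, hx⟩ := ne_bot_iff_exists_ne_one.1 hne
      exact ⟨x, x.2, fun h => hx (Subtype.ext h)⟩
    exact hx1 (hTI g hgH x (map_subtype_le _ hx) (map_subtype_le _ ((mem_normalizer_iff.1 hg x).1 hx)))
  have h3 : p ^ (a + 1) ∣ Nat.card H * H.relIndex (normalizer (H : Set G)) := by
    refine ((Sylow.prime_pow_dvd_card_normalizer hdvd hcard).trans (card_dvd_of_le hN)).trans ?_
    refine dvd_of_eq ?_
    rw [← relIndex_bot_left, ← relIndex_bot_left, relIndex_mul_relIndex ⊥ H _ bot_le le_normalizer]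
  have hc : (p ^ (a + 1)).Coprime (H.relIndex (normalizer (H : Set G))) :=
    Nat.Coprime.pow_left _ (hHall.coprime_dvd_left h1)
  exact Nat.pow_succ_factorization_not_dvd Nat.card_pos.ne' hp (hc.dvd_of_dvd_mul_right h3)

/-- A normal subgroup of order a π-number lies in a Hall π-subgroup. -/
theorem le_of_hall [Finite G] {H : Subgroup G} {π : Set ℕ} (hH : Solvable.IsPiNum π (Nat.card H))
    (hHi : Solvable.IsPiNum πᶜ H.index) {M : Subgroup G} [M.Normal]
    (hM : Solvable.IsPiNum π (Nat.card M)) : M ≤ H := by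
  have h1 : H.relIndex (H ⊔ M) = 1 := by
    refine Solvable.IsPiNum.eq_one (π := π) ((hH.mul hM).of_dvd ?_) (hHi.of_dvd ?_)
    · exact (relIndex_dvd_card _ _).trans (Cores.card_sup_dvd H M)
    · exact Dvd.intro _ (relIndex_mul_index (le_sup_left : H ≤ H ⊔ M))
  exact le_sup_right.trans (relIndex_eq_one.1 h1)

theorem piCore_eq_bot_of_ti [Finite G] {H : Subgroup G} (hTI : Cfsg.IsTISubset (H : Set G))
    (hnn : ¬ H.Normal) {π : Set ℕ} (hH : Solvable.IsPiNum π (Nat.card H))
    (hHi : Solvable.IsPiNum πᶜ H.index) : Cfsg.piCore π G = ⊥ := by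
  set M := Cfsg.piCore π G
  have hM : M ≤ H := le_of_hall hH hHi fun _ hq hd => Cores.card_piCore π hq hd
  obtain ⟨g, hg⟩ : ∃ g : G, g ∉ normalizer (H : Set G) := by
    by_contra! h
    exact hnn (normalizer_eq_top_iff.1 (eq_top_iff.2 fun g _ => h g))
  exact (eq_bot_iff_forall _).2 fun x hx =>
    hTI g hg x (hM hx) (hM ((inferInstance : M.Normal).conj_mem x hx g))

theorem centralizer_le_normalizer_of_ti {H : Subgroup G} (hTI : Cfsg.IsTISubset (H : Set G))
    {h : G} (hh : h ∈ H) (h1 : h ≠ 1) : centralizer ({h} : Set G) ≤ normalizer (H : Set G) := by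
  intro g hg
  by_contra hgH
  refine h1 (hTI g hgH h hh ?_)
  rw [mem_centralizer_singleton_iff.1 hg, mul_inv_cancel_right]
  exact hh

/-- A nontrivial TI subgroup acting coprimely and faithfully on a normal subgroup has only cyclic
abelian subgroups. -/
theorem isCyclic_of_abelian [Finite G] {H K : Subgroup G} [K.Normal]
    (hTI : Cfsg.IsTISubset (H : Set G)) (hH : H ≠ ⊥)
    (hcop : (Nat.card H).Coprime (Nat.card K)) (hK : centralizer (K : Set G) ≤ K)
    {E : Subgroup G} (hE : E ≤ H) [IsMulCommutative E] : IsCyclic E := by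
  by_contra hcyc
  have hKC : K ≤ centralizer (H : Set G) := by
    refine Coprime.le_of_noncyclic hcyc le_normalizer_of_normal
      (hcop.coprime_dvd_left (card_dvd_of_le hE)) fun a ha ha1 x hx => ?_
    exact Coprime.mem_centralizer_of_normalizer le_normalizer_of_normal hcop hx.1
      (centralizer_le_normalizer_of_ti hTI (hE ha) ha1 hx.2)
  refine hH ?_
  rw [← inf_eq_left.2 ((le_centralizer_iff.1 hKC).trans hK), Coprime.inf_eq_bot hcop]

theorem isZGroup_of_ti [Finite G] {H K : Subgroup G} [K.Normal]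
    (hTI : Cfsg.IsTISubset (H : Set G)) (hH : H ≠ ⊥)
    (hcop : (Nat.card H).Coprime (Nat.card K)) (hK : centralizer (K : Set G) ≤ K)
    (h2 : ∀ P : Sylow 2 H, IsMulCommutative (P : Subgroup H)) : IsZGroup H := by
  have habel : ∀ E : Subgroup H, IsMulCommutative E → IsCyclic E := by
    intro E hE
    have : IsCyclic (E.map H.subtype) :=
      isCyclic_of_abelian hTI hH hcop hK (map_subtype_le E)
    exact isCyclic_of_surjective _
      (equivMapOfInjective E H.subtype H.subtype_injective).symm.surjective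
  refine ⟨fun p hp P => ?_⟩
  have := Fact.mk hp
  by_cases hp2 : p = 2
  · subst hp2
    exact habel _ (h2 P)
  refine Isolated.isCyclic_of_unique hp2 _ (P : Subgroup H) P.2 le_rfl ?_
  intro x y hx hxp hyp
  have hab : ∀ E : Subgroup (P : Subgroup H), IsMulCommutative E → IsCyclic E := by
    intro E hE
    have := habel (E.map (P : Subgroup H).subtype) inferInstance
    exact isCyclic_of_surjective _
      (equivMapOfInjective E _ (P : Subgroup H).subtype_injective).symm.surjective
  have : Nontrivial (P : Subgroup H) := ⟨⟨x, 1, hx⟩⟩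
  have := P.2.center_nontrivial
  obtain ⟨z, hz⟩ := exists_prime_orderOf_dvd_card' p
    (Isolated.prime_dvd_card (P.2.to_subgroup (center (P : Subgroup H))))
  have key : ∀ w : (P : Subgroup H), orderOf w = p →
      zpowers w = zpowers (z : (P : Subgroup H)) := by
    intro w hw
    let E := closure ({w, (z : (P : Subgroup H))} : Set (P : Subgroup H))
    have hc : w * z = z * w := mem_center_iff.1 z.2 w
    have : IsMulCommutative E := isMulCommutative_closure (by
      rintro a (rfl | rfl) b (rfl | rfl) <;> first | rfl | exact hc | exact hc.symm)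
    have := hab E this
    refine eq_of_card_eq_cyclic (C := E) (zpowers_le.2 (subset_closure (Or.inl rfl)))
      (zpowers_le.2 (subset_closure (Or.inr rfl))) ?_
    rw [Nat.card_zpowers, Nat.card_zpowers, hw, Subgroup.orderOf_coe, hz]
  by_cases hy : y = 1
  · subst hy; exact one_mem _
  rw [key x (orderOf_eq_prime hxp hx), ← key y (orderOf_eq_prime hyp hy)]
  exact mem_zpowers y

/-- `G = O_{π'}(G) N_G(H)`. -/
theorem sup_normalizer_eq_top [Finite G] {π : Set ℕ} (hsep : Solvable.IsPiSeparable π G)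
    {H : Subgroup G} (hTI : Cfsg.IsTISubset (H : Set G)) (hH : H ≠ ⊥)
    (hHp : Solvable.IsPiNum π (Nat.card H)) (hHi : Solvable.IsPiNum πᶜ H.index) :
    Cfsg.piCore πᶜ G ⊔ normalizer (H : Set G) = ⊤ := by
  set K := Cfsg.piCore πᶜ G with hKdef
  have hKp : Solvable.IsPiNum πᶜ (Nat.card K) := fun _ hq hd => Cores.card_piCore _ hq hd
  have hcop : (Nat.card H).Coprime (Nat.card K) := hHp.coprime hKp
  set f := QuotientGroup.mk' K with hf
  have : Nontrivial (G ⧸ K) := by
    refine QuotientGroup.nontrivial_iff.2 fun h => hH ?_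
    have := Coprime.inf_eq_bot hcop
    rwa [h, inf_top_eq] at this
  obtain ⟨M, hMn, hM1, hM2⟩ := (hsep.quotient K).exists_normal_ne_bot
  have hMp : Solvable.IsPiNum π (Nat.card M) := hM2.resolve_right fun h =>
    hM1 (le_bot_iff.1 ((Cores.le_piCore hMn h).trans (Cores.piCore_quotient_self πᶜ).le))
  have hinj : ∀ x ∈ H, f x = 1 → x = 1 := fun x hx h =>
    Coprime.eq_one_of_mem_of_mem hcop hx ((QuotientGroup.eq_one_iff x).1 h)
  have hfs : Function.Surjective f := QuotientGroup.mk'_surjective K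
  have hMH : M ≤ H.map f :=
    le_of_hall (H := H.map f) (π := π) (M := M) (hHp.of_dvd (card_map_dvd H f))
      (hHi.of_dvd (H.index_map_dvd hfs)) hMp
  obtain ⟨m, hm, hm1⟩ : ∃ m ∈ M, m ≠ 1 :=
    (ne_bot_iff_exists_ne_one.1 hM1).elim fun x hx => ⟨x, x.2, fun h => hx (Subtype.ext h)⟩
  obtain ⟨h, hh, rfl⟩ := hMH hm
  refine eq_top_iff.2 fun g _ => ?_
  have hm' : f h ∈ MulAut.conj (f g) • H.map f := by
    rw [Coprime.mem_conj]
    refine hMH ?_
    have h3 := hMn.conj_mem _ hm (f g)⁻¹
    rwa [inv_inv] at h3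
  rw [Coprime.mem_conj] at hm'
  obtain ⟨b, hb, hbe⟩ := hm'
  set b' := g * b * g⁻¹ with hb'
  have hfb : f b' = f h := by
    rw [hb', map_mul, map_mul, map_inv, hbe]; group
  have hord : ∀ x ∈ H, orderOf (f x) = orderOf x := by
    intro x hx
    refine Nat.dvd_antisymm (orderOf_map_dvd f x) (orderOf_dvd_of_pow_eq_one ?_)
    exact hinj _ (H.pow_mem hx _) (by rw [map_pow, pow_orderOf_eq_one])
  have hordb : orderOf b' = orderOf h := by
    rw [show b' = MulAut.conj g b by rfl, MulEquiv.orderOf_eq, ← hord b hb, hbe,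
      show (f g)⁻¹ * f h * f g = MulAut.conj (f g)⁻¹ (f h) by simp,
      MulEquiv.orderOf_eq, hord h hh]
  obtain ⟨k, hk, hkc⟩ := Coprime.exists_conj_eq_of_le_sup (N := K) (H := zpowers h)
    (L := zpowers b') le_normalizer_of_normal
    (hcop.coprime_dvd_left (card_dvd_of_le (zpowers_le.2 hh)))
    (Or.inl (Group.isSolvable_of_comm fun a c => mul_comm' a c))
    (zpowers_le.2 (by
      have hkb : b' * h⁻¹ ∈ K := (QuotientGroup.eq_one_iff _).1 (by
        show f (b' * h⁻¹) = 1
        rw [map_mul, map_inv, hfb, mul_inv_cancel])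
      have := mul_mem_sup hkb (mem_zpowers h)
      rwa [inv_mul_cancel_right] at this))
    (by rw [Nat.card_zpowers, Nat.card_zpowers, hordb])
  have hh1 : h ≠ 1 := fun e => hm1 (by rw [e, map_one])
  have hmem : k * h * k⁻¹ ∈ zpowers b' :=
    hkc ▸ Coprime.conj_mem_conj.2 (mem_zpowers h)
  have hH' : g⁻¹ * k * h * (g⁻¹ * k)⁻¹ ∈ H := by
    obtain ⟨i, hi⟩ := mem_zpowers_iff.1 hmem
    have : b ^ i = g⁻¹ * b' ^ i * g := by rw [hb', conj_zpow]; group
    rw [hi] at this
    have h2 : g⁻¹ * k * h * (g⁻¹ * k)⁻¹ = g⁻¹ * (k * h * k⁻¹) * g := by group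
    rw [h2, ← this]
    exact H.zpow_mem hb i
  have hN : g⁻¹ * k ∈ normalizer (H : Set G) := by
    by_contra hn
    exact hh1 (hTI _ hn h hh hH')
  have := mul_mem_sup hk (inv_mem hN)
  simpa using this

/-- Without fusion on a nilpotent Hall subgroup `S` of `H` centralised by `Q`, the commutator
`[H, Q]` has order prime to `|S|`. -/
theorem coprime_commutator [Finite G] {H Q S : Subgroup G} (hQH : Q ≤ normalizer (H : Set G))
    (hSH : S ≤ H) [IsMulCommutative S] (hSQ : Q ≤ centralizer (S : Set G))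
    (hHall : (Nat.card S).Coprime (S.relIndex H))
    (hfus : ∀ x ∈ S, ∀ h ∈ H, h * x * h⁻¹ ∈ S → h * x * h⁻¹ = x) :
    (Nat.card ↥⁅H, Q⁆).Coprime (Nat.card S) := by
  have hc : Nat.card (S.subgroupOf H) = Nat.card S :=
    Nat.card_congr (subgroupOfEquivOfLe hSH).toEquiv
  have : IsMulCommutative (S.subgroupOf H) := ⟨⟨fun a b => Subtype.ext (Subtype.ext
    (setLike_mul_comm (s := S) a.2 b.2))⟩⟩
  let _ : CommGroup (S.subgroupOf H) :=
    { (inferInstance : Group (S.subgroupOf H)) with mul_comm := mul_comm' }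
  obtain ⟨R, hRn, hR⟩ := Transfer.exists_normal_complement_of_no_fusion (S.subgroupOf H)
    (hc ▸ hHall) fun x hx g hg => ⟨1, one_mem _, by
      rw [one_mul, inv_one, mul_one]
      exact Subtype.ext (hfus x hx g g.2 hg).symm⟩
  have hRc : Nat.card R = S.relIndex H := hR.index_eq_card.symm
  have hD : ⁅H, Q⁆ ≤ R.map H.subtype := by
    rw [commutator_le]
    intro d hd q hq
    obtain ⟨r, hr, s, hs, he⟩ : ∃ r ∈ R, ∃ s ∈ S.subgroupOf H, r * s = ⟨d, hd⟩ := by
      have : (⟨d, hd⟩ : H) ∈ R ⊔ S.subgroupOf H := hR.sup_eq_top ▸ mem_top _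
      exact mem_sup_of_normal_left.1 this
    have hd' : d = (r : G) * (s : G) := (congrArg Subtype.val he).symm
    have h1 : ⁅d, q⁆ = (r : G) * (q * (r : G) * q⁻¹)⁻¹ := by
      have hqs : q * (s : G) = (s : G) * q := (mem_centralizer_iff.1 (hSQ hq) s hs).symm
      rw [commutatorElement_def, hd', mul_assoc (r : G) (s : G) q, ← hqs]
      group
    have hqr : q * (r : G) * q⁻¹ ∈ H := (mem_normalizer_iff.1 (hQH hq) r).1 r.2
    have h2 : (⟨q * (r : G) * q⁻¹, hqr⟩ : H) ∈ R := by
      refine Coprime.mem_of_pow_mem (n := R.index) ?_ (R.pow_index_mem _)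
      rw [hR.symm.index_eq_card, hc, ← Subgroup.orderOf_coe]
      show (orderOf (MulAut.conj q (r : G))).Coprime _
      rw [MulEquiv.orderOf_eq, Subgroup.orderOf_coe]
      exact (hHall.coprime_dvd_right (hRc ▸ Subgroup.orderOf_dvd_natCard R hr)).symm
    rw [h1]
    exact (R.map H.subtype).mul_mem (mem_map_of_mem H.subtype hr)
      ((R.map H.subtype).inv_mem (mem_map_of_mem H.subtype h2))
  refine (hHall.coprime_dvd_right ?_).symm
  have := card_dvd_of_le hD
  rwa [card_map_of_injective H.subtype_injective, hRc] at this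

/-- `C_H(Q)` is a Hall subgroup of the Z-group `H`, and `[H, Q]` has order prime to it. -/
theorem hall_fixed_points [Finite G] {H Q : Subgroup G} [IsZGroup H]
    (hQH : Q ≤ normalizer (H : Set G)) (hcop : (Nat.card Q).Coprime (Nat.card H)) :
    (Nat.card ↥(H ⊓ centralizer (Q : Set G))).Coprime
      ((H ⊓ centralizer (Q : Set G)).relIndex H) ∧
    (Nat.card ↥(H ⊓ centralizer (Q : Set G))).Coprime (Nat.card ↥⁅H, Q⁆) := by
  have hsolv : Group.IsSolvable Q ∨ Group.IsSolvable H := Or.inr inferInstance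
  set C := H ⊓ centralizer (Q : Set G) with hCdef
  have key : ∀ s : ℕ, s.Prime → s ∣ Nat.card C → ∃ S : Subgroup G, S ≤ C ∧
      IsPGroup s S ∧ IsCyclic S ∧ ¬ s ∣ S.relIndex H ∧ S ≠ ⊥ := by
    intro s hs hsC
    have := Fact.mk hs
    obtain ⟨x, hx⟩ := exists_prime_orderOf_dvd_card' s hsC
    have hxo : orderOf (x : G) = s := by rw [Subgroup.orderOf_coe, hx]
    have hxQ : Q ≤ centralizer ((zpowers (x : G)) : Set G) :=
      le_centralizer_iff.1 (zpowers_le.2 x.2.2)
    obtain ⟨P, hxP, hPQ⟩ := Coprime.exists_invariant_sylow_ge hQH hcop hsolv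
      (U := zpowers (x : G)) (zpowers_le.2 x.2.1)
      (IsPGroup.iff_card.2 ⟨1, by rw [Nat.card_zpowers, hxo, pow_one]⟩)
      (hxQ.trans (centralizer_le_normalizer _))
    set S := (P : Subgroup H).map H.subtype with hS
    have hScyc : IsCyclic S :=
      isCyclic_of_surjective _ (equivMapOfInjective (P : Subgroup H) H.subtype
        H.subtype_injective).surjective
    have hSp : IsPGroup s S := P.2.map _
    have hScop : (Nat.card Q).Coprime (Nat.card S) :=
      hcop.coprime_dvd_right (card_dvd_of_le (map_subtype_le _))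
    have hxS : (x : G) ∈ S := hxP (mem_zpowers _)
    have hx1 : (x : G) ≠ 1 := fun e => hs.ne_one (by rw [← hxo, e, orderOf_one])
    refine ⟨S, le_inf (map_subtype_le _) ?_, hSp, hScyc, ?_,
      fun e => hx1 (mem_bot.1 (e ▸ hxS))⟩
    · rcases hSp.commutator_eq_bot_or_commutator_eq_self hPQ hScop.symm with h | h
      · exact le_centralizer_iff.1 (commutator_eq_bot_iff_le_centralizer.1 h)
      · exfalso
        let _ : IsMulCommutative S := ⟨⟨IsCyclic.commGroup.mul_comm⟩⟩
        have hbot := Coprime.abelian_inf_eq_bot (A := Q) (V := S) hPQ hScop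
        rw [commutator_comm, h] at hbot
        have : (x : G) ∈ S ⊓ centralizer (Q : Set G) ⊓ S := ⟨⟨hxS, x.2.2⟩, hxS⟩
        rw [hbot] at this
        exact hx1 (mem_bot.1 this)
    · rw [relIndex, hS, subgroupOf, comap_map_eq_self_of_injective H.subtype_injective]
      exact P.not_dvd_index
  refine ⟨Nat.coprime_of_dvd fun s hs hsC h2 => ?_, Nat.coprime_of_dvd fun s hs hsC h2 => ?_⟩
  · obtain ⟨S, hSC, -, -, hSi, -⟩ := key s hs hsC
    exact hSi (h2.trans (relIndex_dvd_of_le_left H hSC))
  obtain ⟨S, hSC, hSp, hScyc, hSi, hS0⟩ := key s hs hsC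
  have := Fact.mk hs
  have hSH : S ≤ H := hSC.trans inf_le_left
  have hSQ : Q ≤ centralizer (S : Set G) := le_centralizer_iff.1 (hSC.trans inf_le_right)
  let _ : IsMulCommutative S := ⟨⟨IsCyclic.commGroup.mul_comm⟩⟩
  obtain ⟨a, ha⟩ := IsPGroup.iff_card.1 hSp
  have ha0 : a ≠ 0 := by
    rintro rfl
    exact hS0 (card_eq_one.1 (by rw [ha, pow_zero]))
  have hsS : s ∣ Nat.card S := ha ▸ dvd_pow_self s ha0
  have hSHall : (Nat.card S).Coprime (S.relIndex H) :=
    ha ▸ ((hs.coprime_iff_not_dvd.2 hSi).pow_left a)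
  set H' : Subgroup G := (commutator H).map H.subtype with hH'
  have hH'c : Nat.card H' = Nat.card (commutator H) :=
    card_map_of_injective H.subtype_injective
  by_cases hcase : s ∣ Nat.card H'
  · -- the Sylow subgroup is normal in `H`
    have hSle : S.subgroupOf H ≤ commutator H := by
      intro x hx
      refine Coprime.mem_of_pow_mem (n := (commutator H).index) ?_ ((commutator H).pow_index_mem x)
      refine Nat.Coprime.coprime_dvd_left ?_ (Nat.Coprime.pow_left a
        (hs.coprime_iff_not_dvd.2 fun h => hs.not_dvd_one ?_))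
      · rw [← Subgroup.orderOf_coe, ← ha]
        exact Subgroup.orderOf_dvd_natCard S hx
      · exact (IsZGroup.coprime_commutator_index H).gcd_eq_one ▸
          Nat.dvd_gcd (hH'c ▸ hcase) h
    have : IsCyclic (commutator H) := IsZGroup.isCyclic_commutator H
    have : IsCyclic H' := isCyclic_of_surjective _
      (equivMapOfInjective (commutator H) H.subtype H.subtype_injective).surjective
    have hSH' : S ≤ H' := fun x hx => ⟨⟨x, hSH hx⟩, hSle hx, rfl⟩
    have hSn : H ≤ normalizer (S : Set G) := by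
      intro h hh
      refine Solvable.mem_normalizer_iff_conj.2 (eq_of_card_eq_cyclic (C := H') ?_ hSH'
        (Coprime.card_conj h S))
      intro y hy
      obtain ⟨z, hz, hze⟩ := hSH' (Coprime.mem_conj.1 hy)
      refine ⟨⟨h, hh⟩ * z * ⟨h, hh⟩⁻¹, (inferInstance : (commutator H).Normal).conj_mem z hz _, ?_⟩
      simp [show ((z : H) : G) = h⁻¹ * y * h from hze, mul_assoc]
    have hD : ⁅H, Q⁆ ≤ centralizer (S : Set G) := by
      rw [← commutator_eq_bot_iff_le_centralizer]
      refine commutator_commutator_eq_bot_of_rotate ?_ ?_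
      · rw [commutator_eq_bot_iff_le_centralizer.2 hSQ, commutator_bot_left]
      · refine le_bot_iff.1 (le_trans (commutator_mono
          (le_normalizer_iff_commutator_le_left.1 hSn) le_rfl) ?_)
        rw [commutator_comm]
        exact (commutator_eq_bot_iff_le_centralizer.2 hSQ).le
    set D := ⁅H, Q⁆ with hDdef
    have hDH : D ≤ H := Coprime.commutator_le_left' hQH
    have hDD : ⁅D, Q⁆ = D := Coprime.commutator_commutator_eq hQH hcop hsolv
    have hSD : IsMulCommutative (S ⊓ D : Subgroup G) := ⟨⟨fun x y => Subtype.ext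
      (setLike_mul_comm (s := S) x.2.1 y.2.1)⟩⟩
    have hi : (S ⊓ D).relIndex D ∣ S.relIndex H := by
      rw [inf_relIndex_right]
      have : (S.subgroupOf H).Normal := normal_subgroupOf_of_le_normalizer hSn
      have h3 := Solvable.relIndex_dvd_relIndex_of_normal (N := S.subgroupOf H)
        (le_top : D.subgroupOf H ≤ ⊤)
      rwa [relIndex_top_right, relIndex_subgroupOf hDH] at h3
    have hco := coprime_commutator (normalizer_commutator_ge_right H Q)
      (inf_le_right : S ⊓ D ≤ D) (hSQ.trans (centralizer_le inf_le_left))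
      ((hSHall.coprime_dvd_left (card_dvd_of_le inf_le_left)).coprime_dvd_right hi)
      (fun x hx d hd _ => by
        rw [← mem_centralizer_iff.1 (hD hd) x hx.1, mul_inv_cancel_right])
    rw [hDD] at hco
    have h4 : s ∣ Nat.card ↥(S ⊓ D) := by
      have h5 : Nat.card ↥(S ⊓ D) * (S ⊓ D).relIndex D = Nat.card D := by
        rw [← relIndex_bot_left, ← relIndex_bot_left, relIndex_mul_relIndex ⊥ _ D bot_le inf_le_right]
      rw [← h5] at h2
      exact (hs.dvd_mul.1 h2).resolve_right fun h => hSi (h.trans hi)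
    exact hs.not_dvd_one (hco.gcd_eq_one ▸ Nat.dvd_gcd h2 h4)
  · -- no fusion
    have hbot : S ⊓ H' = ⊥ := Coprime.inf_eq_bot
      (ha ▸ ((hs.coprime_iff_not_dvd.2 hcase).pow_left a))
    have hco := coprime_commutator hQH hSH hSQ hSHall fun x hx h hh hy => by
      have h1 : h * x * h⁻¹ * x⁻¹ ∈ S ⊓ H' :=
        ⟨S.mul_mem hy (S.inv_mem hx), ⟨⁅(⟨h, hh⟩ : H), ⟨x, hSH hx⟩⁆,
          commutator_mem_commutator (mem_top _) (mem_top _), rfl⟩⟩
      rw [hbot, mem_bot, mul_inv_eq_one] at h1
      exact h1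
    exact hs.not_dvd_one (hco.gcd_eq_one ▸ Nat.dvd_gcd h2 hsS)

end Cfsg.Agent.TIHall
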